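import Groth.Prelude.Def_EtTens2
import Groth.Agent.Lib.EtSite.Points
import Mathlib.CategoryTheory.Sites.Point.Skyscraper

/-!
# Stalks of tensor products of abelian étale sheaves
-/

set_option autoImplicit false
set_option backward.isDefEq.respectTransparency false
universe u

open CategoryTheory CategoryTheory.Limits AlgebraicGeometry Opposite
open GrothLib.EtSite
open scoped TensorProduct

noncomputable section

namespace GrothLib.EtTens

variable {X : Scheme.{u}}

/-- The presheaf tensor product of two sheaves. -/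
abbrev preT (F G : EtCoh.Ab X) : X.Etaleᵒᵖ ⥤ AddCommGrpCat.{u + 1} :=
  _root_.EtTens.tensorObj F.obj G.obj

/-- The tensor product of two sheaves. -/
abbrev T (F G : EtCoh.Ab X) : EtCoh.Ab X :=
  ((_root_.EtTens.tensorBi (X := X)).obj F).obj G

/-- The sheafification map. -/
def unitT (F G : EtCoh.Ab X) : preT F G ⟶ (T F G).obj :=
  toSheafify X.smallEtaleTopology (preT F G)

/-- The tensor product of two sections. -/
def tmulSec {F G : EtCoh.Ab X} {U : X.Etale} (m : EtCoh.sect F U) (n : EtCoh.sect G U) :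
    EtCoh.sect (T F G) U :=
  (unitT F G).app (op U) (m ⊗ₜ[ℤ] n)

theorem tmulSec_add_left {F G : EtCoh.Ab X} {U : X.Etale} (m m' : EtCoh.sect F U)
    (n : EtCoh.sect G U) : tmulSec (m + m') n = tmulSec m n + tmulSec m' n :=
  (congrArg ((unitT F G).app (op U)) (TensorProduct.add_tmul m m' n)).trans (map_add _ _ _)

theorem tmulSec_add_right {F G : EtCoh.Ab X} {U : X.Etale} (m : EtCoh.sect F U)
    (n n' : EtCoh.sect G U) : tmulSec m (n + n') = tmulSec m n + tmulSec m n' :=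
  (congrArg ((unitT F G).app (op U)) (TensorProduct.tmul_add m n n')).trans (map_add _ _ _)

theorem tmulSec_zero_left {F G : EtCoh.Ab X} {U : X.Etale} (n : EtCoh.sect G U) :
    tmulSec (0 : EtCoh.sect F U) n = 0 :=
  (congrArg ((unitT F G).app (op U)) (TensorProduct.zero_tmul _ n)).trans (map_zero _)

theorem map_tmulSec {F G : EtCoh.Ab X} {U V : X.Etale} (g : V ⟶ U) (m : EtCoh.sect F U)
    (n : EtCoh.sect G U) :
    (T F G).obj.map g.op (tmulSec m n) = tmulSec (F.obj.map g.op m) (G.obj.map g.op n) :=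
  (NatTrans.naturality_apply (unitT F G) g.op (m ⊗ₜ[ℤ] n)).symm

variable {Ω : Type u} [Field Ω] [IsSepClosed Ω] (ξ : Spec (CommRingCat.of Ω) ⟶ X)

/-- Two germs can be represented on one neighbourhood. -/
theorem exists_germ₂ (F G : EtCoh.Ab X) (a : (EtCoh.stalk ξ).obj F) (b : (EtCoh.stalk ξ).obj G) :
    ∃ (U : X.Etale) (t : (Scheme.pointSmallEtale ξ).fiber.obj U) (m : EtCoh.sect F U)
      (n : EtCoh.sect G U), germ ξ F t m = a ∧ germ ξ G t n = b := by
  obtain ⟨U₁, t₁, m, rfl⟩ := exists_germ ξ F a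
  obtain ⟨U₂, t₂, n, rfl⟩ := exists_germ ξ G b
  obtain ⟨⟨U, t⟩, ⟨k, hk⟩, ⟨g, hg⟩, -⟩ := IsCofilteredOrEmpty.cone_objs
    (C := (Scheme.pointSmallEtale ξ).fiber.Elements) ⟨U₁, t₁⟩ ⟨U₂, t₂⟩
  dsimp only at k g hk hg
  refine ⟨U, t, F.obj.map k.op m, G.obj.map g.op n, ?_, ?_⟩
  · rw [germ_map, hk]
  · rw [germ_map, hg]

/-- Three germs can be represented on one neighbourhood. -/
theorem exists_germ₃ (F G H : EtCoh.Ab X) (a : (EtCoh.stalk ξ).obj F) (b : (EtCoh.stalk ξ).obj G)
    (c : (EtCoh.stalk ξ).obj H) :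
    ∃ (U : X.Etale) (t : (Scheme.pointSmallEtale ξ).fiber.obj U) (m : EtCoh.sect F U)
      (n : EtCoh.sect G U) (r : EtCoh.sect H U),
      germ ξ F t m = a ∧ germ ξ G t n = b ∧ germ ξ H t r = c := by
  obtain ⟨U₁, t₁, m, n, rfl, rfl⟩ := exists_germ₂ ξ F G a b
  obtain ⟨U₂, t₂, r, rfl⟩ := exists_germ ξ H c
  obtain ⟨⟨U, t⟩, ⟨k, hk⟩, ⟨g, hg⟩, -⟩ := IsCofilteredOrEmpty.cone_objs
    (C := (Scheme.pointSmallEtale ξ).fiber.Elements) ⟨U₁, t₁⟩ ⟨U₂, t₂⟩
  dsimp only at k g hk hg
  refine ⟨U, t, F.obj.map k.op m, G.obj.map k.op n, H.obj.map g.op r, ?_, ?_, ?_⟩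
  · rw [germ_map, hk]
  · rw [germ_map, hk]
  · rw [germ_map, hg]

variable (F G : EtCoh.Ab X)

instance isIso_presheafFiber_unitT :
    IsIso ((Scheme.pointSmallEtale ξ).presheafFiber.map (unitT F G)) := by
  unfold unitT
  infer_instance

/-- The germ of a tensor of sections, as a bilinear map. -/
def germTmul {U : X.Etale} (t : (Scheme.pointSmallEtale ξ).fiber.obj U) :
    (preT F G).obj (op U) ⟶
      AddCommGrpCat.of ((EtCoh.stalk ξ).obj F ⊗[ℤ] (EtCoh.stalk ξ).obj G) :=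
  AddCommGrpCat.ofHom (TensorProduct.map (germ ξ F t).hom.toIntLinearMap
    (germ ξ G t).hom.toIntLinearMap).toAddMonoidHom

/-- The map from the stalk of a tensor product to the tensor product of stalks. -/
def toTmul : (EtCoh.stalk ξ).obj (T F G) ⟶
    AddCommGrpCat.of ((EtCoh.stalk ξ).obj F ⊗[ℤ] (EtCoh.stalk ξ).obj G) :=
  inv ((Scheme.pointSmallEtale ξ).presheafFiber.map (unitT F G)) ≫
    (Scheme.pointSmallEtale ξ).presheafFiberDesc (P := preT F G) (fun _ t => germTmul ξ F G t)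
      (fun U V g t => by
        refine _root_.EtTens.hom_ext_tmul fun m n => ?_
        change (germTmul ξ F G t) (F.obj.map g.op m ⊗ₜ[ℤ] G.obj.map g.op n) = _
        change germ ξ F t (F.obj.map g.op m) ⊗ₜ[ℤ] germ ξ G t (G.obj.map g.op n) = _
        rw [germ_map, germ_map]
        rfl)


theorem germ_unitT {U : X.Etale} (t : (Scheme.pointSmallEtale ξ).fiber.obj U)
    (z : (preT F G).obj (op U)) :
    toTmul ξ F G (germ ξ (T F G) t ((unitT F G).app (op U) z)) = germTmul ξ F G t z := by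
  have h := (Scheme.pointSmallEtale ξ).toPresheafFiber_naturality_apply (unitT F G) U t z
  refine (congrArg (toTmul ξ F G) h.symm).trans ?_
  refine (ConcreteCategory.comp_apply _ _ _).trans ?_
  refine (congrArg _ (ConcreteCategory.congr_hom
    (IsIso.hom_inv_id ((Scheme.pointSmallEtale ξ).presheafFiber.map (unitT F G))) _)).trans ?_
  exact ConcreteCategory.congr_hom
    ((Scheme.pointSmallEtale ξ).toPresheafFiber_presheafFiberDesc (P := preT F G) _ _ U t) z

theorem toTmul_germ_tmulSec {U : X.Etale} (t : (Scheme.pointSmallEtale ξ).fiber.obj U)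
    (m : EtCoh.sect F U) (n : EtCoh.sect G U) :
    toTmul ξ F G (germ ξ (T F G) t (tmulSec m n)) = germ ξ F t m ⊗ₜ[ℤ] germ ξ G t n :=
  germ_unitT ξ F G t _

/-- Every element of the stalk of a tensor product is the germ of a presheaf tensor. -/
theorem exists_germ_unitT (z : (EtCoh.stalk ξ).obj (T F G)) :
    ∃ (U : X.Etale) (t : (Scheme.pointSmallEtale ξ).fiber.obj U) (w : (preT F G).obj (op U)),
      germ ξ (T F G) t ((unitT F G).app (op U) w) = z := by
  obtain ⟨y, hy⟩ := (ConcreteCategory.bijective_of_isIso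
    ((Scheme.pointSmallEtale ξ).presheafFiber.map (unitT F G))).surjective z
  obtain ⟨U, t, w, rfl⟩ := (Scheme.pointSmallEtale ξ).toPresheafFiber_jointly_surjective y
  exact ⟨U, t, w, ((Scheme.pointSmallEtale ξ).toPresheafFiber_naturality_apply
    (unitT F G) U t w).symm.trans hy⟩

/-- Induction on the stalk of a tensor product. -/
theorem induction_stalk_tensor {motive : (EtCoh.stalk ξ).obj (T F G) → Prop} (h0 : motive 0)
    (htmul : ∀ (U : X.Etale) (t : (Scheme.pointSmallEtale ξ).fiber.obj U) (m : EtCoh.sect F U)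
      (n : EtCoh.sect G U), motive (germ ξ (T F G) t (tmulSec m n)))
    (hadd : ∀ a b, motive a → motive b → motive (a + b)) (z : (EtCoh.stalk ξ).obj (T F G)) :
    motive z := by
  obtain ⟨U, t, w, rfl⟩ := exists_germ_unitT ξ F G z
  induction w using TensorProduct.induction_on with
  | zero => rw [map_zero, map_zero]; exact h0
  | tmul m n => exact htmul U t m n
  | add a b ha hb => rw [map_add, map_add]; exact hadd _ _ ha hb

theorem germ_tmulSec_congr {U U' : X.Etale} (t : (Scheme.pointSmallEtale ξ).fiber.obj U)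
    (t' : (Scheme.pointSmallEtale ξ).fiber.obj U') (m : EtCoh.sect F U) (n : EtCoh.sect G U)
    (m' : EtCoh.sect F U') (n' : EtCoh.sect G U') (hm : germ ξ F t m = germ ξ F t' m')
    (hn : germ ξ G t n = germ ξ G t' n') :
    germ ξ (T F G) t (tmulSec m n) = germ ξ (T F G) t' (tmulSec m' n') := by
  obtain ⟨⟨W, w⟩, ⟨k, hk⟩, ⟨g, hg⟩, -⟩ := IsCofilteredOrEmpty.cone_objs
    (C := (Scheme.pointSmallEtale ξ).fiber.Elements) ⟨U, t⟩ ⟨U', t'⟩
  dsimp only at k g hk hg
  rw [← hk, ← hg, ← germ_map, ← germ_map] at hm hn ⊢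
  obtain ⟨W₁, e₁, w₁, hw₁, he₁⟩ := (germ_eq_iff ξ F w _ _).1 hm
  rw [← hw₁, ← germ_map, ← germ_map ξ G e₁ w₁] at hn
  rw [← hw₁, ← germ_map, ← germ_map ξ (T F G) e₁ w₁]
  obtain ⟨W₂, e₂, w₂, hw₂, he₂⟩ := (germ_eq_iff ξ G w₁ _ _).1 hn
  rw [← hw₂, ← germ_map, ← germ_map]
  simp only [map_tmulSec]
  rw [he₁, he₂]

/-- The tensor product of two germs. -/
def tmulStalk (a : (EtCoh.stalk ξ).obj F) (b : (EtCoh.stalk ξ).obj G) :
    (EtCoh.stalk ξ).obj (T F G) :=
  germ ξ (T F G) (exists_germ₂ ξ F G a b).choose_spec.choose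
    (tmulSec (exists_germ₂ ξ F G a b).choose_spec.choose_spec.choose
      (exists_germ₂ ξ F G a b).choose_spec.choose_spec.choose_spec.choose)

theorem tmulStalk_germ {U : X.Etale} (t : (Scheme.pointSmallEtale ξ).fiber.obj U)
    (m : EtCoh.sect F U) (n : EtCoh.sect G U) :
    tmulStalk ξ F G (germ ξ F t m) (germ ξ G t n) = germ ξ (T F G) t (tmulSec m n) := by
  have h := (exists_germ₂ ξ F G (germ ξ F t m) (germ ξ G t n)).choose_spec.choose_spec.choose_spec.choose_spec
  exact germ_tmulSec_congr ξ F G _ _ _ _ _ _ h.1 h.2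

theorem tmulStalk_add_left (a a' : (EtCoh.stalk ξ).obj F) (b : (EtCoh.stalk ξ).obj G) :
    tmulStalk ξ F G (a + a') b = tmulStalk ξ F G a b + tmulStalk ξ F G a' b := by
  obtain ⟨U, t, m, m', n, rfl, rfl, rfl⟩ := exists_germ₃ ξ F F G a a' b
  rw [← map_add, tmulStalk_germ, tmulStalk_germ, tmulStalk_germ, tmulSec_add_left, map_add]

theorem tmulStalk_add_right (a : (EtCoh.stalk ξ).obj F) (b b' : (EtCoh.stalk ξ).obj G) :
    tmulStalk ξ F G a (b + b') = tmulStalk ξ F G a b + tmulStalk ξ F G a b' := by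
  obtain ⟨U, t, m, n, n', rfl, rfl, rfl⟩ := exists_germ₃ ξ F G G a b b'
  rw [← map_add, tmulStalk_germ, tmulStalk_germ, tmulStalk_germ, tmulSec_add_right, map_add]

/-- The map from the tensor product of stalks to the stalk of the tensor product. -/
def ofTmul : (EtCoh.stalk ξ).obj F ⊗[ℤ] (EtCoh.stalk ξ).obj G →+ (EtCoh.stalk ξ).obj (T F G) :=
  (TensorProduct.lift (LinearMap.mk₂ ℤ (tmulStalk ξ F G) (tmulStalk_add_left ξ F G)
    (fun c a b => map_zsmul (AddMonoidHom.mk' (fun a => tmulStalk ξ F G a b)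
      fun a a' => tmulStalk_add_left ξ F G a a' b) c a)
    (tmulStalk_add_right ξ F G)
    (fun c a b => map_zsmul (AddMonoidHom.mk' (tmulStalk ξ F G a)
      (tmulStalk_add_right ξ F G a)) c b))).toAddMonoidHom

theorem ofTmul_germ {U : X.Etale} (t : (Scheme.pointSmallEtale ξ).fiber.obj U)
    (m : EtCoh.sect F U) (n : EtCoh.sect G U) :
    ofTmul ξ F G (germ ξ F t m ⊗ₜ[ℤ] germ ξ G t n) = germ ξ (T F G) t (tmulSec m n) :=
  tmulStalk_germ ξ F G t m n

theorem bijective_ofTmul : Function.Bijective (ofTmul ξ F G) := by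
  have h1 : ∀ x, toTmul ξ F G (ofTmul ξ F G x) = x := fun x => by
    induction x using TensorProduct.induction_on with
    | zero => rw [map_zero, map_zero]
    | tmul a b =>
      obtain ⟨U, t, m, n, rfl, rfl⟩ := exists_germ₂ ξ F G a b
      rw [ofTmul_germ, toTmul_germ_tmulSec]
    | add a b ha hb => rw [map_add, map_add, ha, hb]
  refine ⟨fun x y h => (h1 x).symm.trans ((congrArg (toTmul ξ F G) h).trans (h1 y)), fun z => ?_⟩
  refine induction_stalk_tensor ξ F G (motive := fun z => ∃ x, ofTmul ξ F G x = z)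
    ⟨0, map_zero _⟩ (fun U t m n => ⟨_, ofTmul_germ ξ F G t m n⟩) ?_ z
  rintro _ _ ⟨x, rfl⟩ ⟨y, rfl⟩
  exact ⟨x + y, map_add _ _ _⟩

end GrothLib.EtTens
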